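import Cfsg.Agent.Lib.InvolCountFour.Main
import Cfsg.Agent.Lib.CharApp.Burnside
import Cfsg.Agent.S0516
import Cfsg.Agent.S0486

/-!
Simple groups of 2-rank at most two (statement S0482), given the classifications of the simple groups with
semidihedral and with wreathed Sylow 2-subgroups (helper46).

* `WreathedClass`: the classification used (the conclusion of S0523)
* `rankTwo_of_classes`
-/

set_option autoImplicit false

namespace Cfsg.Agent.InvolCountFour

open Subgroup

universe u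

/-- The simple groups with wreathed Sylow 2-subgroups (the statement of S0523). -/
def WreathedClass : Prop :=
  ∀ (G : Type u) [Group G] [Finite G], IsSimpleGroup G → ∀ S : Sylow 2 G,
    Cfsg.IsWreathed (S : Subgroup G) →
    (∃ (F : Type) (_ : Field F) (_ : Fintype F), Odd (Fintype.card F) ∧
      Nonempty (G ≃* Matrix.ProjectiveSpecialLinearGroup (Fin 3) F)) ∨
    (∃ (F : Type) (_ : Field F) (_ : Fintype F) (q : ℕ), Fintype.card F = q ^ 2 ∧ Odd q ∧
      Nonempty (G ≃* Cfsg.PSU 3 F q)) ∨ Cfsg.IsM11 G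

variable {G : Type u} [Group G] [Finite G] [IsSimpleGroup G]

/-- S0482 from the semidihedral and wreathed classifications. -/
theorem rankTwo_of_classes (hSD : SemidihedralClass.{u}) (hW : WreathedClass.{u})
    (hG : ¬ IsMulCommutative G) (h2 : Cfsg.PRankLE 2 2 G) :
    (∃ (F : Type) (_ : Field F) (_ : Fintype F), Odd (Fintype.card F) ∧ 5 ≤ Fintype.card F ∧
        Nonempty (G ≃* Matrix.ProjectiveSpecialLinearGroup (Fin 2) F)) ∨
      (∃ (F : Type) (_ : Field F) (_ : Fintype F), Odd (Fintype.card F) ∧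
        Nonempty (G ≃* Matrix.ProjectiveSpecialLinearGroup (Fin 3) F)) ∨
      (∃ (F : Type) (_ : Field F) (_ : Fintype F) (q : ℕ), Fintype.card F = q ^ 2 ∧ Odd q ∧
        Nonempty (G ≃* Cfsg.PSU 3 F q)) ∨
      (∃ (F : Type) (_ : Field F) (_ : Fintype F), Fintype.card F = 16 ∧ Nonempty (G ≃* Cfsg.PSU 3 F 4)) ∨
      Nonempty (G ≃* alternatingGroup (Fin 7)) ∨
      Cfsg.IsM11 G := by
  classical
  haveI : Fact (Nat.Prime 2) := ⟨Nat.prime_two⟩
  haveI : Fintype (GaloisField 2 4) := Fintype.ofFinite _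
  have hF : Fintype.card (GaloisField 2 4) = 16 := by
    rw [← Nat.card_eq_fintype_card, GaloisField.card 2 4 (by norm_num)]
    norm_num
  obtain ⟨P⟩ : Nonempty (Sylow 2 (Cfsg.PSU 3 (GaloisField 2 4) 4)) := inferInstance
  obtain ⟨S⟩ : Nonempty (Sylow 2 G) := inferInstance
  rcases S0516.result hG h2 S hF P with ⟨n, hn, hS⟩ | hS | hS | hS
  · rcases GWDihedral.dihedralGW G ‹_› hG S n hn hS with ⟨F, iF, iF', hodd, ⟨e⟩⟩ | h7
    · refine Or.inl ⟨F, iF, iF', hodd, ?_, ⟨e⟩⟩
      by_contra hlt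
      have h1 := Fintype.one_lt_card (α := F)
      obtain ⟨m, hm⟩ := hodd
      have h3 : Nat.card F = 3 := by rw [Nat.card_eq_fintype_card]; omega
      have hc := PSL2.card_psl_mul (F := F)
      rw [h3, show Nat.gcd 2 (3 - 1) = 2 from rfl] at hc
      have h12 : Nat.card G = 2 ^ 2 * 3 ^ 1 := by
        have h12' : Nat.card (PSL2.PSL2 F) = 12 := Nat.eq_of_mul_eq_mul_left two_pos (hc.trans (by norm_num))
        rw [Nat.card_congr e.toEquiv]
        exact h12'.trans (by norm_num)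
      haveI := CharApp.isSolvable_of_card_eq_prime_pow_mul 2 3 Nat.prime_two Nat.prime_three _ G h12 2 1 rfl
      exact hG ⟨⟨IsSimpleGroup.comm_iff_isSolvable.2 inferInstance⟩⟩
    · exact Or.inr (Or.inr (Or.inr (Or.inr (Or.inl h7))))
  · rcases hSD G ‹_› S hS with ⟨F, iF, iF', h3, e⟩ | ⟨F, iF, iF', q, hq, h1, e⟩ | h
    · exact Or.inr (Or.inl ⟨F, iF, iF', Nat.odd_iff.2 (by omega), e⟩)
    · exact Or.inr (Or.inr (Or.inl ⟨F, iF, iF', q, hq, Nat.odd_iff.2 (by omega), e⟩))
    · exact Or.inr (Or.inr (Or.inr (Or.inr (Or.inr h))))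
  · rcases hW G ‹_› S hS with h | h | h
    · exact Or.inr (Or.inl h)
    · exact Or.inr (Or.inr (Or.inl h))
    · exact Or.inr (Or.inr (Or.inr (Or.inr (Or.inr h))))
  · exact Or.inr (Or.inr (Or.inr (Or.inl
      ⟨GaloisField 2 4, inferInstance, inferInstance, hF, S0486.result hF S P hS⟩)))

end Cfsg.Agent.InvolCountFour
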