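import Mathlib
import Cfsg.Agent.Lib.PGroup.Basic

/-!
The number of involutions of a finite group modulo four is that of a Sylow 2-subgroup (helper46).

* `card_involutions_mod_four`: `I(G) ≡ I(S) (mod 4)` when `4 ∣ |S|` or more generally `S ≠ 1`
-/

set_option autoImplicit false

namespace Cfsg.Agent.InvolCountFour

/-- A finite set with two commuting involutive maps moving each point to three further points. -/
theorem four_dvd_card {α : Type*} [DecidableEq α] (a b : α → α) (s : Finset α) :
    (∀ x ∈ s, a x ∈ s ∧ b x ∈ s ∧ a (a x) = x ∧ b (b x) = x ∧ a (b x) = b (a x) ∧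
      a x ≠ x ∧ b x ≠ x ∧ a x ≠ b x) → 4 ∣ s.card := by
  induction s using Finset.strongInduction with
  | _ s ih =>
    intro h
    rcases s.eq_empty_or_nonempty with rfl | ⟨x, hx⟩
    · simp
    obtain ⟨hax, hbx, haa, hbb, hab, ha1, hb1, hne⟩ := h x hx
    have habx : a (b x) ∈ s := (h _ hbx).1
    have h4 : a (b x) ≠ x := fun e => hne (by rw [← (h _ hbx).2.2.1, e])
    have h5 : a (b x) ≠ a x := fun e => hb1 (by rw [← (h _ hbx).2.2.1, e, haa])
    have h6 : a (b x) ≠ b x := (h _ hbx).2.2.2.2.2.1
    set T : Finset α := {x, a x, b x, a (b x)} with hT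
    have hTs : T ⊆ s := by
      simp [hT, Finset.insert_subset_iff, hx, hax, hbx, habx]
    have hTc : T.card = 4 := by
      simp [hT, ha1.symm, hb1.symm, h4.symm, hne, h5.symm, h6.symm]
    have hss : s \ T ⊂ s := Finset.sdiff_ssubset hTs ⟨x, by simp [hT]⟩
    have := ih _ hss fun y hy => by
      obtain ⟨hys, hyT⟩ := Finset.mem_sdiff.1 hy
      obtain ⟨hay, hby, rest⟩ := h y hys
      have haT : a y ∉ T := fun hm => hyT (by
        have e := rest.1
        simp only [hT, Finset.mem_insert, Finset.mem_singleton] at hm ⊢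
        rcases hm with hm | hm | hm | hm <;> rw [hm] at e
        · exact Or.inr (Or.inl e.symm)
        · exact Or.inl (e.symm.trans haa)
        · exact Or.inr (Or.inr (Or.inr e.symm))
        · exact Or.inr (Or.inr (Or.inl (e.symm.trans (h _ hbx).2.2.1))))
      have hbT : b y ∉ T := fun hm => hyT (by
        have e := rest.2.1
        simp only [hT, Finset.mem_insert, Finset.mem_singleton] at hm ⊢
        rcases hm with hm | hm | hm | hm <;> rw [hm] at e
        · exact Or.inr (Or.inr (Or.inl e.symm))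
        · exact Or.inr (Or.inr (Or.inr (e.symm.trans ((h _ hx).2.2.2.2.1).symm)))
        · exact Or.inl (e.symm.trans hbb)
        · refine Or.inr (Or.inl ?_)
          rw [← e, hab, (h _ hax).2.2.2.1])
      exact ⟨Finset.mem_sdiff.2 ⟨hay, haT⟩, Finset.mem_sdiff.2 ⟨hby, hbT⟩, rest⟩
    rw [← Finset.sdiff_union_of_subset hTs, Finset.card_union_of_disjoint Finset.sdiff_disjoint, hTc]
    exact dvd_add this (dvd_refl 4)

open Subgroup

variable {G : Type*} [Group G] [Finite G]

/-- An involution outside a Sylow 2-subgroup with centralizer of index two in it moves freely under a four group. -/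
theorem fiber_four_dvd (S : Sylow 2 G) (h4 : 4 ∣ Nat.card (S : Subgroup G)) [Fintype G] [DecidableEq G]
    (M : Subgroup G) (hM : M.relIndex (S : Subgroup G) = 2) (Y : Finset G)
    (hY : ∀ t, t ∈ Y ↔ orderOf t = 2 ∧ t ∉ (S : Subgroup G) ∧
      (S : Subgroup G) ⊓ centralizer ({t} : Set G) = M) :
    4 ∣ Y.card := by
  haveI := Fact.mk Nat.prime_two
  rcases Y.eq_empty_or_nonempty with rfl | ⟨t₀, ht₀⟩
  · simp
  have hMS : M ≤ (S : Subgroup G) := ((hY t₀).1 ht₀).2.2 ▸ inf_le_left
  set S' : Subgroup G := (S : Subgroup G) with hS'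
  set M' : Subgroup S' := M.subgroupOf S' with hM'
  have hi : M'.index = 2 := hM
  haveI : M'.Normal := normal_of_index_eq_two hi
  -- a central involution of `S` inside `M`
  have hMne : M' ≠ ⊥ := by
    intro e
    rw [e, index_bot] at hi
    rw [hi] at h4; omega
  haveI : Nontrivial M' := (nontrivial_iff_ne_bot M').2 hMne
  have hP : IsPGroup 2 S' := S.isPGroup'
  haveI : Nontrivial ↥(M' ⊓ center S' : Subgroup S') := (nontrivial_iff_ne_bot _).2 (by
    exact PGroup.inf_center_ne_bot hP hMne)
  obtain ⟨z₀, hz₀⟩ := exists_prime_orderOf_dvd_card' (G := ↥(M' ⊓ center S' : Subgroup S')) 2 (by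
    obtain ⟨k, hk, hk'⟩ := (hP.to_subgroup (M' ⊓ center S')).nontrivial_iff_card.1 inferInstance
    rw [hk']; exact dvd_pow_self 2 (by omega))
  set z : G := ((z₀ : S') : G) with hzdef
  have hz2 : orderOf z = 2 := by rw [hzdef, Subgroup.orderOf_coe, Subgroup.orderOf_coe, hz₀]
  have hzM : z ∈ M := mem_subgroupOf.1 z₀.2.1
  have hzC : ∀ x ∈ S', x * z = z * x := fun x hx =>
    congrArg Subtype.val (mem_center_iff.1 z₀.2.2 ⟨x, hx⟩)
  have hzz : z * z = 1 := by rw [← pow_two, ← hz2]; exact pow_orderOf_eq_one z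
  -- an element of `S` outside `M`
  obtain ⟨s₀, hs₀⟩ : ∃ s₀ : S', s₀ ∉ M' := by
    by_contra h; push Not at h
    rw [(eq_top_iff' M').2 h, index_top] at hi; omega
  set s : G := (s₀ : G) with hsdef
  have hsS : s ∈ S' := s₀.2
  have hsM : s ∉ M := fun h => hs₀ (mem_subgroupOf.2 h)
  have hs2 : s * s ∈ M := by
    have := (mul_mem_iff_of_index_two hi (a := s₀) (b := s₀)).2 Iff.rfl
    exact mem_subgroupOf.1 this
  have hnorm : ∀ x ∈ M, s * x * s⁻¹ ∈ M ∧ s⁻¹ * x * s ∈ M := fun x hx =>
    ⟨mem_subgroupOf.1 (‹M'.Normal›.conj_mem ⟨x, hMS hx⟩ (mem_subgroupOf.2 hx) s₀),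
     mem_subgroupOf.1 (‹M'.Normal›.conj_mem' ⟨x, hMS hx⟩ (mem_subgroupOf.2 hx) s₀)⟩
  refine four_dvd_card (fun t => t * z) (fun t => s * t * s⁻¹) Y fun t ht => ?_
  obtain ⟨ho, hnS, hC⟩ := (hY t).1 ht
  have hcom : ∀ x ∈ S', (t * x = x * t ↔ x ∈ M) := fun x hx => by
    constructor
    · intro h
      rw [← hC]
      exact ⟨hx, mem_centralizer_singleton_iff.2 h.symm⟩
    · intro h
      rw [← hC] at h
      exact (mem_centralizer_singleton_iff.1 h.2).symm
  have htz : t * z = z * t := (hcom z (hMS hzM)).2 hzM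
  have htt : t * t = 1 := by rw [← pow_two, ← ho]; exact pow_orderOf_eq_one t
  have hs2t : t * (s * s) = s * s * t := (hcom _ (mul_mem hsS hsS)).2 hs2
  have hst : s * t * s⁻¹ ≠ t := fun e => hsM ((hcom s hsS).1 (by
    conv_lhs => rw [← e]
    group))
  refine ⟨?_, ?_, ?_, ?_, ?_, ?_, hst, ?_⟩
  · have hnS' : t * z ∉ S' := fun h => hnS (by
      have := mul_mem h (inv_mem (hMS hzM)); rwa [mul_inv_cancel_right] at this)
    refine (hY _).2 ⟨orderOf_eq_prime ?_ fun e => hnS' (e ▸ one_mem _), hnS', ?_⟩
    · rw [pow_two, mul_assoc, ← mul_assoc z, ← htz, mul_assoc, hzz, mul_one, htt]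
    · rw [← hC]
      ext x
      simp only [mem_inf, mem_centralizer_singleton_iff, and_congr_right_iff]
      intro hx
      have hxz := hzC x hx
      constructor
      · intro h
        have : x * t * z = t * x * z := by rw [mul_assoc, h, mul_assoc, ← hxz, ← mul_assoc]
        exact mul_right_cancel this
      · intro h
        rw [← mul_assoc, h, mul_assoc, hxz, ← mul_assoc]
  · have hnS' : s * t * s⁻¹ ∉ S' := fun h => hnS (by
      have := mul_mem (mul_mem (inv_mem hsS) h) hsS
      simpa [mul_assoc] using this)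
    refine (hY _).2 ⟨?_, hnS', ?_⟩
    · rw [← MulAut.conj_apply, MulEquiv.orderOf_eq, ho]
    · ext x
      simp only [mem_inf, mem_centralizer_singleton_iff]
      constructor
      · rintro ⟨hx, h⟩
        have h' : t * (s⁻¹ * x * s) = s⁻¹ * x * s * t := by
          have h'' := congrArg (fun y => s⁻¹ * y * s) h
          simp only [mul_assoc, inv_mul_cancel_left, inv_mul_cancel, mul_one] at h'' ⊢
          exact h''.symm
        have := (hnorm _ ((hcom _ (mul_mem (mul_mem (inv_mem hsS) hx) hsS)).1 h')).1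
        simpa [mul_assoc] using this
      · intro hx
        refine ⟨hMS hx, ?_⟩
        have h' := (hcom _ (hMS (hnorm x hx).2)).2 (hnorm x hx).2
        have h'' := congrArg (fun y => s * y * s⁻¹) h'
        simp only [mul_assoc, mul_inv_cancel_left, mul_inv_cancel, mul_one] at h'' ⊢
        exact h''.symm
  · rw [mul_assoc, hzz, mul_one]
  · calc s * (s * t * s⁻¹) * s⁻¹ = s * s * t * (s * s)⁻¹ := by group
      _ = t := by rw [← hs2t, mul_inv_cancel_right]
  · have : s⁻¹ * z = z * s⁻¹ := hzC _ (inv_mem hsS)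
    show s * t * s⁻¹ * z = s * (t * z) * s⁻¹
    simp only [mul_assoc, this]
  · intro e
    have : z = 1 := mul_left_cancel (a := t) (e.trans (mul_one t).symm)
    rw [this, orderOf_one] at hz2; omega
  · intro e
    apply hnS
    -- `⟨z, t⟩` is normalised by `S`
    set W : Subgroup G := zpowers z ⊔ zpowers t with hW
    have hWp : IsPGroup 2 W := by
      refine IsPGroup.to_sup_of_normal_left' ?_ ?_ ?_
      · exact IsPGroup.of_card (n := 1) (by rw [Nat.card_zpowers, hz2, pow_one])
      · exact IsPGroup.of_card (n := 1) (by rw [Nat.card_zpowers, ho, pow_one])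
      · rw [zpowers_le]
        exact centralizer_le_normalizer _ (mem_centralizer_iff.2 fun y hy => by
          obtain ⟨k, rfl⟩ := mem_zpowers_iff.1 hy
          exact (Commute.zpow_left htz.symm k).eq)
    have hsN : s ∈ normalizer (W : Set G) := by
      have hle : W.map (MulAut.conj s).toMonoidHom ≤ W := by
        rw [hW, Subgroup.map_sup, MonoidHom.map_zpowers, MonoidHom.map_zpowers]
        refine sup_le (zpowers_le.2 ?_) (zpowers_le.2 ?_)
        · show s * z * s⁻¹ ∈ W
          rw [hzC s hsS, mul_inv_cancel_right]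
          exact mem_sup_left (mem_zpowers z)
        · show s * t * s⁻¹ ∈ W
          rw [← e]
          exact mul_mem (mem_sup_right (mem_zpowers t)) (mem_sup_left (mem_zpowers z))
      have heq := Subgroup.eq_of_le_of_card_ge hle (le_of_eq
        (Nat.card_congr (W.equivMapOfInjective _ (MulAut.conj s).injective).toEquiv))
      refine mem_normalizer_iff.2 fun y => ⟨fun hy => hle (mem_map.2 ⟨y, hy, rfl⟩), fun hy => ?_⟩
      rw [← heq] at hy
      obtain ⟨y', hy', hyy⟩ := mem_map.1 hy
      exact (MulAut.conj s).injective hyy ▸ hy'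
    have hSN : S' ≤ normalizer (W : Set G) := fun x hx => by
      have hMW : ∀ y ∈ M, y ∈ normalizer (W : Set G) := fun y hy => by
        refine centralizer_le_normalizer _ (mem_centralizer_iff.2 fun w hw => ?_)
        have hle : W ≤ centralizer ({y} : Set G) := sup_le
          (zpowers_le.2 (mem_centralizer_singleton_iff.2 (hzC y (hMS hy)).symm))
          (zpowers_le.2 (mem_centralizer_singleton_iff.2 ((hcom y (hMS hy)).2 hy)))
        exact mem_centralizer_singleton_iff.1 (hle hw)
      by_cases hxM : x ∈ M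
      · exact hMW x hxM
      · have : s⁻¹ * x ∈ M := by
          have := (mul_mem_iff_of_index_two hi (a := s₀⁻¹) (b := ⟨x, hx⟩)).2
            (iff_of_false (fun h => hs₀ (inv_mem_iff.1 h)) fun h => hxM (mem_subgroupOf.1 h))
          exact mem_subgroupOf.1 this
        simpa using mul_mem hsN (hMW _ this)
    have := S.3 (IsPGroup.to_sup_of_normal_right' S.isPGroup' hWp hSN) le_sup_left
    show t ∈ S'
    rw [hS', ← this]
    exact mem_sup_right (mem_sup_right (mem_zpowers t))

/-- The involutions outside a Sylow 2-subgroup of order at least four come in multiples of four. -/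
theorem four_dvd_outside (S : Sylow 2 G) (h4 : 4 ∣ Nat.card (S : Subgroup G)) [Fintype G] [DecidableEq G]
    (X : Finset G) (hX : ∀ t, t ∈ X ↔ orderOf t = 2 ∧ t ∉ (S : Subgroup G)) : 4 ∣ X.card := by
  classical
  haveI := Fact.mk Nat.prime_two
  set S' : Subgroup G := (S : Subgroup G) with hS'
  letI act : MulAction S' G := MulAction.compHom G ((MulAut.conj : G →* MulAut G).comp S'.subtype)
  have hact : ∀ (x : S') (t : G), x • t = (x : G) * t * (x : G)⁻¹ := fun _ _ => rfl
  have hstab : ∀ t, MulAction.stabilizer S' t = (S' ⊓ centralizer ({t} : Set G)).subgroupOf S' := by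
    intro t
    ext x
    rw [MulAction.mem_stabilizer_iff, hact, mem_subgroupOf, mem_inf, mem_centralizer_singleton_iff,
      mul_inv_eq_iff_eq_mul]
    exact ⟨fun h => ⟨x.2, h⟩, fun h => h.2⟩
  rw [← Finset.card_filter_add_card_filter_not
    (fun t => (S' ⊓ centralizer ({t} : Set G)).relIndex S' = 2)]
  refine dvd_add ?_ ?_
  · -- fibers over the index two centralizers
    rw [Finset.card_eq_sum_card_image (fun t => S' ⊓ centralizer ({t} : Set G))]
    refine Finset.dvd_sum fun M hM => ?_
    obtain ⟨t, ht, rfl⟩ := Finset.mem_image.1 hM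
    refine fiber_four_dvd S h4 _ (Finset.mem_filter.1 ht).2 _ fun u => ?_
    simp only [Finset.mem_filter, hX]
    exact ⟨fun h => ⟨h.1.1.1, h.1.1.2, h.2⟩,
      fun h => ⟨⟨⟨h.1, h.2.1⟩, by rw [h.2.2]; exact (Finset.mem_filter.1 ht).2⟩, h.2.2⟩⟩
  · -- larger orbits
    set Z := X.filter fun t => ¬ (S' ⊓ centralizer ({t} : Set G)).relIndex S' = 2 with hZ
    have hmem : ∀ t, t ∈ Z ↔ (orderOf t = 2 ∧ t ∉ S') ∧ (MulAction.stabilizer S' t).index ≠ 2 := by
      intro t; rw [hZ, Finset.mem_filter, hX, hstab]; rfl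
    rw [Finset.card_eq_sum_card_image (fun t => (MulAction.orbit S' t).toFinset)]
    refine Finset.dvd_sum fun O hO => ?_
    obtain ⟨t, ht, rfl⟩ := Finset.mem_image.1 hO
    obtain ⟨⟨ho, hnS⟩, hne⟩ := (hmem t).1 ht
    have hfib : Z.filter (fun u => (MulAction.orbit S' u).toFinset = (MulAction.orbit S' t).toFinset) =
        (MulAction.orbit S' t).toFinset := by
      ext u
      rw [Finset.mem_filter, Set.mem_toFinset, Set.toFinset_inj]
      refine ⟨fun h => h.2 ▸ MulAction.mem_orbit_self u, fun h => ⟨?_, MulAction.orbit_eq_iff.2 h⟩⟩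
      obtain ⟨x, rfl⟩ := h
      refine (hmem _).2 ⟨⟨?_, fun hm => hnS ?_⟩, ?_⟩
      · show orderOf (MulAut.conj (x : G) t) = 2
        rw [MulEquiv.orderOf_eq, ho]
      · have hm' : (x : G) * t * (x : G)⁻¹ ∈ S' := hm
        simpa [mul_assoc] using mul_mem (mul_mem (inv_mem x.2) hm') x.2
      · rwa [MulAction.index_stabilizer, MulAction.orbit_smul, ← MulAction.index_stabilizer]
    rw [hfib, ← Set.ncard_eq_toFinset_card', ← MulAction.index_stabilizer]
    obtain ⟨j, hj⟩ := S.isPGroup'.index (MulAction.stabilizer S' t)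
    rcases j with _ | _ | j
    · exfalso
      have hle : S' ≤ centralizer ({t} : Set G) := fun x hx => by
        have : (⟨x, hx⟩ : S') ∈ MulAction.stabilizer S' t := by rw [index_eq_one.1 hj]; exact mem_top _
        rw [hstab, mem_subgroupOf] at this
        exact this.2
      have hp : IsPGroup 2 ↥(S' ⊔ zpowers t) := by
        refine IsPGroup.to_sup_of_normal_right' S.isPGroup'
          (IsPGroup.of_card (n := 1) (by rw [Nat.card_zpowers, ho, pow_one])) fun x hx => ?_
        refine centralizer_le_normalizer _ (mem_centralizer_iff.2 fun y hy => ?_)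
        obtain ⟨k, rfl⟩ := mem_zpowers_iff.1 hy
        exact (Commute.zpow_left (mem_centralizer_singleton_iff.1 (hle hx)).symm k).eq
      have he := S.3 hp le_sup_left
      refine hnS ?_
      rw [hS', ← he]
      exact mem_sup_right (mem_zpowers t)
    · exact absurd hj (by simpa using hne)
    · rw [hj]; exact ⟨2 ^ j, by ring⟩

/-- `I(G) ≡ I(S) (mod 4)` for a Sylow 2-subgroup `S` of order divisible by four. -/
theorem card_involutions_mod_four (S : Sylow 2 G) (h4 : 4 ∣ Nat.card (S : Subgroup G)) :
    Nat.card {t : G // orderOf t = 2} % 4 = Nat.card {x : (S : Subgroup G) // orderOf x = 2} % 4 := by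
  classical
  haveI := Fintype.ofFinite G
  have hd := four_dvd_outside S h4
    (Finset.univ.filter fun t => orderOf t = 2 ∧ t ∉ (S : Subgroup G)) (fun t => by simp)
  have hin : Nat.card {x : (S : Subgroup G) // orderOf x = 2} =
      (Finset.univ.filter fun t => orderOf t = 2 ∧ t ∈ (S : Subgroup G)).card := by
    rw [← Fintype.card_subtype, ← Nat.card_eq_fintype_card]
    exact Nat.card_congr
      { toFun := fun x => ⟨x.1.1, by rw [Subgroup.orderOf_coe]; exact x.2, x.1.2⟩
        invFun := fun t => ⟨⟨t.1, t.2.2⟩, by rw [← Subgroup.orderOf_coe]; exact t.2.1⟩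
        left_inv := fun _ => rfl
        right_inv := fun _ => rfl }
  rw [hin, Nat.card_eq_fintype_card, Fintype.card_subtype,
    ← Finset.card_filter_add_card_filter_not (fun t => t ∈ (S : Subgroup G)),
    Finset.filter_filter, Finset.filter_filter]
  omega

end Cfsg.Agent.InvolCountFour
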