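import Cfsg.Agent.Lib.InvolCountFour.Basic
import Cfsg.Agent.Lib.TwoGroupRecog.Basic
import Cfsg.Agent.Lib.GWDihedral.Main
import Cfsg.Agent.Lib.PSL2.Existence
import Cfsg.Agent.S4477
import Cfsg.Agent.S0201

/-!
Simple groups whose number of involutions is `1 (mod 4)` (statement S1257), given the classification of the simple
groups with semidihedral Sylow 2-subgroups (helper46).

* `SemidihedralClass`: the classification used (the conclusion of S0507)
* `result_of_semidihedral`
-/

set_option autoImplicit false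

namespace Cfsg.Agent.InvolCountFour

open Subgroup

universe u

/-- The simple groups with semidihedral Sylow 2-subgroups (the statement of S0507). -/
def SemidihedralClass : Prop :=
  ∀ (G : Type u) [Group G] [Finite G], IsSimpleGroup G → ∀ S : Sylow 2 G,
    Cfsg.IsQuasiDihedral (S : Subgroup G) →
    (∃ (F : Type) (_ : Field F) (_ : Fintype F), Fintype.card F % 4 = 3 ∧
      Nonempty (G ≃* Matrix.ProjectiveSpecialLinearGroup (Fin 3) F)) ∨
    (∃ (F : Type) (_ : Field F) (_ : Fintype F) (q : ℕ), Fintype.card F = q ^ 2 ∧ q % 4 = 1 ∧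
      Nonempty (G ≃* Cfsg.PSU 3 F q)) ∨ Cfsg.IsM11 G

variable {G : Type u} [Group G] [Finite G] [IsSimpleGroup G]

/-- A simple group with cyclic Sylow 2-subgroup and an involution has order two. -/
theorem card_two_of_cyclic (S : Sylow 2 G) (hc : IsCyclic (S : Subgroup G)) (h2 : 2 ∣ Nat.card G) :
    Nat.card G = 2 := by
  haveI : Fact (Nat.Prime 2) := ⟨Nat.prime_two⟩
  have hp : (Nat.card G).minFac = 2 := (Nat.minFac_eq_two_iff _).2 h2
  have hC := IsCyclic.isComplement' hp hc
  set φ := MonoidHom.transferSylow S (IsCyclic.normalizer_le_centralizer hp hc)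
  have hi : φ.ker.index = 1 ∨ φ.ker = ⊥ := by
    rcases IsSimpleGroup.eq_bot_or_eq_top_of_normal φ.ker inferInstance with h | h
    · exact Or.inr h
    · exact Or.inl (by rw [h, index_top])
  have hcard := hC.card_mul
  rcases hi with hi | hi
  · exfalso
    rw [← hC.index_eq_card] at hcard
    have h1 : Nat.card (S : Subgroup G) = 1 := by
      have := hC.symm.index_eq_card
      omega
    have := S.card_eq_multiplicity
    rw [h1] at this
    have h3 : (Nat.card G).factorization 2 ≠ 0 :=
      (Nat.Prime.factorization_pos_of_dvd Nat.prime_two Nat.card_pos.ne' h2).ne'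
    have := Nat.one_lt_pow h3 (by norm_num : 1 < 2)
    omega
  · rw [hi, card_bot, one_mul] at hcard
    have htop : (S : Subgroup G) = ⊤ := eq_top_of_card_eq _ hcard
    haveI : IsCyclic G := by
      haveI : IsCyclic (⊤ : Subgroup G) := htop ▸ hc
      exact isCyclic_of_surjective (Subgroup.topEquiv (G := G)).toMonoidHom (Subgroup.topEquiv (G := G)).surjective
    letI : CommGroup G := IsCyclic.commGroup
    exact ((Nat.prime_dvd_prime_iff_eq Nat.prime_two IsSimpleGroup.prime_card).1 h2).symm

/-- The order of `PSL₂(q)`, `q` odd, is divisible by eight only for `q ≡ ±1 (mod 8)`. -/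
theorem mod_eight {F : Type*} [Field F] [Finite F] (hodd : Odd (Nat.card F))
    (h8 : 8 ∣ Nat.card (Matrix.ProjectiveSpecialLinearGroup (Fin 2) F)) :
    Nat.card F % 8 = 1 ∨ Nat.card F % 8 = 7 := by
  have h := PSL2.card_psl_mul (F := F)
  obtain ⟨m, hm⟩ := hodd
  rw [show Nat.gcd 2 (Nat.card F - 1) = 2 by
    rw [hm]; simp] at h
  obtain ⟨c, hc⟩ := h8
  rw [hc] at h
  have h16 : Nat.card F * ((Nat.card F + 1) * (Nat.card F - 1)) % 16 = 0 := by rw [← h]; omega
  have hr : (Nat.card F % 16) * ((Nat.card F % 16 + 1) * (Nat.card F % 16 + 15)) % 16 = 0 := by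
    rw [← h16]
    refine Nat.ModEq.mul (Nat.mod_modEq _ _) (Nat.ModEq.mul ((Nat.mod_modEq _ _).add_right 1) ?_)
    show (Nat.card F % 16 + 15) % 16 = (Nat.card F - 1) % 16
    omega
  have : Nat.card F % 16 < 16 := Nat.mod_lt _ (by norm_num)
  interval_cases hq : Nat.card F % 16 <;> omega

/-- S1257 from the semidihedral classification. -/
theorem result_of_semidihedral (hSD : SemidihedralClass.{u})
    (hI : Nat.card {t : G // orderOf t = 2} % 4 = 1) :
    Nat.card G = 2 ∨ Nonempty (G ≃* alternatingGroup (Fin 7)) ∨ Cfsg.IsM11 G ∨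
    (∃ (F : Type) (_ : Field F) (_ : Fintype F), 3 < Fintype.card F ∧
      (Fintype.card F % 8 = 1 ∨ Fintype.card F % 8 = 7) ∧
      Nonempty (G ≃* Matrix.ProjectiveSpecialLinearGroup (Fin 2) F)) ∨
    (∃ (F : Type) (_ : Field F) (_ : Fintype F), Fintype.card F % 4 = 3 ∧
      Nonempty (G ≃* Matrix.ProjectiveSpecialLinearGroup (Fin 3) F)) ∨
    (∃ (F : Type) (_ : Field F) (_ : Fintype F) (q : ℕ), Fintype.card F = q ^ 2 ∧ q % 4 = 1 ∧
      Nonempty (G ≃* Cfsg.PSU 3 F q)) := by
  classical
  haveI : Fact (Nat.Prime 2) := ⟨Nat.prime_two⟩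
  obtain ⟨t, ht⟩ : ∃ t : G, orderOf t = 2 := by
    by_contra h
    haveI : IsEmpty {t : G // orderOf t = 2} := ⟨fun x => h ⟨x.1, x.2⟩⟩
    rw [Nat.card_of_isEmpty] at hI; omega
  have h2G : 2 ∣ Nat.card G := ht ▸ orderOf_dvd_natCard t
  obtain ⟨S⟩ : Nonempty (Sylow 2 G) := inferInstance
  by_cases hcyc : IsCyclic (S : Subgroup G)
  · exact Or.inl (card_two_of_cyclic S hcyc h2G)
  have hna : ¬ IsMulCommutative G := fun hG => by
    letI : CommGroup G := { ‹Group G› with mul_comm := fun a b => hG.is_comm.comm a b }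
    haveI : IsCyclic G := isCyclic_of_prime_card (p := Nat.card G) (hp := ⟨IsSimpleGroup.prime_card⟩) rfl
    exact hcyc inferInstance
  obtain ⟨n, hn⟩ := IsPGroup.iff_card.1 S.isPGroup'
  have h4 : 4 ∣ Nat.card (S : Subgroup G) := by
    rcases n with _ | _ | n
    · exact absurd (isCyclic_of_card_dvd_prime (p := 2) (by rw [hn]; norm_num)) hcyc
    · exact absurd (isCyclic_of_card_dvd_prime (p := 2) (by rw [hn]; norm_num)) hcyc
    · rw [hn]; exact ⟨2 ^ n, by ring⟩
  have hS := card_involutions_mod_four S h4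
  rw [hI] at hS
  have hidx := (S4477.result S.isPGroup' hS.symm).resolve_left hcyc
  have hne4 : Nat.card (S : Subgroup G) ≠ 4 := fun h => by
    have hall : ∀ x : (S : Subgroup G), x ≠ 1 → orderOf x = 2 := fun x hx => by
      have hd : orderOf x ∣ 2 ^ 2 := by
        rw [show (2 : ℕ) ^ 2 = 4 from rfl, ← h]; exact orderOf_dvd_natCard x
      obtain ⟨i, hi, hi'⟩ := (Nat.dvd_prime_pow Nat.prime_two).1 hd
      interval_cases i
      · exact absurd (orderOf_eq_one_iff.1 hi') hx
      · exact hi'
      · exact absurd (isCyclic_of_orderOf_eq_card x (hi'.trans h.symm)) hcyc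
    haveI := Fintype.ofFinite (S : Subgroup G)
    have h3 : Nat.card {x : (S : Subgroup G) // orderOf x = 2} = 3 := by
      rw [Nat.card_congr (Equiv.subtypeEquivRight (q := fun x => x ≠ 1) fun x =>
        ⟨fun hx e => by rw [e, orderOf_one] at hx; omega, hall x⟩), Nat.card_eq_fintype_card,
        Fintype.card_subtype_compl, Fintype.card_subtype_eq, ← Nat.card_eq_fintype_card, h]
    rw [h3] at hS; omega
  rcases TwoGroupRecog.classify_of_index_commutator S.isPGroup' hidx hne4 with
    ⟨k, hk⟩ | ⟨k, hk, a, b, ha, hb, hab⟩ | ⟨k, ⟨e⟩⟩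
  · rcases GWDihedral.dihedralGW G ‹_› hna S (2 ^ (k + 2))
      ((le_self_pow₀ one_le_two (by omega) : 2 ≤ 2 ^ (k + 2))) hk with
      ⟨F, iF, iF', hodd, ⟨e⟩⟩ | h7
    · right; right; right; left
      have h8 : 8 ∣ Nat.card (Matrix.ProjectiveSpecialLinearGroup (Fin 2) F) := by
        rw [← Nat.card_congr e.toEquiv]
        obtain ⟨es⟩ := hk
        have := (S : Subgroup G).card_subgroup_dvd_card
        rw [Nat.card_congr es.toEquiv, DihedralGroup.nat_card] at this
        refine Dvd.dvd.trans ⟨2 ^ k, ?_⟩ this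
        ring
      have hq := mod_eight (F := F) (by rwa [Nat.card_eq_fintype_card]) h8
      rw [Nat.card_eq_fintype_card] at hq
      refine ⟨F, iF, iF', ?_, hq, ⟨e⟩⟩
      have := Fintype.one_lt_card (α := F)
      omega
    · exact Or.inr (Or.inl h7)
  · rcases hSD G ‹_› S ⟨k + 3, by omega, hk, a, b, ha, hb,
      by rwa [show k + 3 - 1 = k + 2 by omega]⟩ with h | h | h
    · exact Or.inr (Or.inr (Or.inr (Or.inr (Or.inl h))))
    · exact Or.inr (Or.inr (Or.inr (Or.inr (Or.inr h))))
    · exact Or.inr (Or.inr (Or.inl h))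
  · exfalso
    have hO : ∀ N : Subgroup G, N.Normal → Odd (Nat.card N) → N = ⊥ := fun N hN ho => by
      refine (IsSimpleGroup.eq_bot_or_eq_top_of_normal N hN).resolve_right fun e => ?_
      rw [e, card_top] at ho
      exact Nat.not_even_iff_odd.2 ho (even_iff_two_dvd.2 h2G)
    have hc := S0201.result S k e hO
    rcases IsSimpleGroup.eq_bot_or_eq_top_of_normal (center G) inferInstance with h | h
    · rw [h, card_bot] at hc; omega
    · exact hna (Subgroup.center_eq_top_iff.mp h)

end Cfsg.Agent.InvolCountFour
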